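import Groth.Prelude.Def_RDer
import Mathlib.Algebra.Homology.Homotopy

/-!
# Comparison maps on resolutions: homotopy, naturality and composition

Formal facts about `RDer.homologyComparison` and about maps from an injective resolution into a
complex of injectives.
-/

set_option autoImplicit false
set_option backward.isDefEq.respectTransparency false
set_option backward.defeqAttrib.useBackward true
set_option linter.unusedSectionVars false

universe v₁ v₂ v₃ u₁ u₂ u₃

open CategoryTheory CategoryTheory.Limits HomologicalComplex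

namespace Groth.Agent.BCPaste8

section Homotopy

variable {A : Type u₁} [Category.{v₁} A] [Abelian A] {Y : A} (I : InjectiveResolution Y)
  (L : CochainComplex A ℕ) [∀ n, Injective (L.X n)]

/-- A map from an injective resolution into a complex of injectives that vanishes on the resolved
object is homotopic to zero. -/
noncomputable def homotopyZero (f : I.cocomplex ⟶ L) (h : I.ι.f 0 ≫ f.f 0 = 0) : Homotopy f 0 := by
  let z₀ : I.cocomplex.X 1 ⟶ L.X 0 := I.exact₀.descToInjective (f.f 0) h
  have hz₀ : I.cocomplex.d 0 1 ≫ z₀ = f.f 0 := I.exact₀.comp_descToInjective _ _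
  let z₁ : I.cocomplex.X 2 ⟶ L.X 1 := (I.exact_succ 0).descToInjective (f.f 1 - z₀ ≫ L.d 0 1)
    (by rw [Preadditive.comp_sub, reassoc_of% hz₀, HomologicalComplex.Hom.comm, sub_self])
  have hz₁ : I.cocomplex.d 1 2 ≫ z₁ = f.f 1 - z₀ ≫ L.d 0 1 :=
    (I.exact_succ 0).comp_descToInjective _ _
  have hz : ∀ (n : ℕ) (g : I.cocomplex.X (n + 1) ⟶ L.X n) (g' : I.cocomplex.X (n + 2) ⟶ L.X (n + 1)),
      f.f (n + 1) = I.cocomplex.d (n + 1) (n + 2) ≫ g' + g ≫ L.d n (n + 1) →
      I.cocomplex.d (n + 1) (n + 2) ≫ (f.f (n + 2) - g' ≫ L.d (n + 1) (n + 2)) = 0 := by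
    intro n g g' w
    rw [Preadditive.comp_sub, ← HomologicalComplex.Hom.comm, w, Preadditive.add_comp, Category.assoc,
      Category.assoc, HomologicalComplex.d_comp_d, comp_zero, add_zero, sub_self]
  refine Homotopy.mkCoinductive _ z₀ (by simp [hz₀]) z₁ (by simp [hz₁]) (fun n ⟨g, g', w⟩ =>
    ⟨(I.exact_succ (n + 1)).descToInjective (f.f (n + 2) - g' ≫ L.d _ _)
      (hz n g g' (by simp only [w, add_comm])), by simp [(I.exact_succ (n + 1)).comp_descToInjective]⟩)

/-- Two lifts of the same map are homotopic. -/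
noncomputable def homotopyLift (f g : I.cocomplex ⟶ L) (h : I.ι.f 0 ≫ f.f 0 = I.ι.f 0 ≫ g.f 0) :
    Homotopy f g :=
  Homotopy.equivSubZero.invFun (homotopyZero I L _ (by simp [h]))

/-- Two lifts of the same map agree on homology after applying an additive functor. -/
theorem homologyMap_lift_eq {B : Type u₂} [Category.{v₂} B] [Abelian B] (Φ : A ⥤ B) [Φ.Additive]
    (f g : I.cocomplex ⟶ L) (h : I.ι.f 0 ≫ f.f 0 = I.ι.f 0 ≫ g.f 0) (q : ℕ) :
    homologyMap ((Φ.mapHomologicalComplex _).map f) q = homologyMap ((Φ.mapHomologicalComplex _).map g) q :=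
  (Φ.mapHomotopy (homotopyLift I L f g h)).homologyMap_eq q

end Homotopy

section Comparison

variable {B : Type u₂} [Category.{v₂} B] [Abelian B] {C : Type u₃} [Category.{v₃} C] [Abelian C]
  (Ψ : B ⥤ C) [Ψ.Additive] [PreservesFiniteLimits Ψ] {ι' : Type*} {c : ComplexShape ι'}

/-- `RDer.cyclesComparison` is natural in the complex. -/
theorem cyclesComparison_naturality {K L : HomologicalComplex B c} (f : K ⟶ L) (i : ι') :
    cyclesMap ((Ψ.mapHomologicalComplex c).map f) i ≫ RDer.cyclesComparison Ψ L i =
      RDer.cyclesComparison Ψ K i ≫ Ψ.map (cyclesMap f i) := by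
  rw [← cancel_mono (Ψ.map (L.iCycles i)), Category.assoc, RDer.cyclesComparison_i, cyclesMap_i,
    Category.assoc, ← Ψ.map_comp, cyclesMap_i, Ψ.map_comp, RDer.cyclesComparison_i_assoc]
  rfl

/-- `RDer.homologyComparison` is natural in the complex. -/
theorem homologyComparison_naturality {K L : HomologicalComplex B c} (f : K ⟶ L) (i : ι') :
    homologyMap ((Ψ.mapHomologicalComplex c).map f) i ≫ RDer.homologyComparison Ψ L i =
      RDer.homologyComparison Ψ K i ≫ Ψ.map (homologyMap f i) := by
  rw [← cancel_epi (((Ψ.mapHomologicalComplex c).obj K).homologyπ i), homologyπ_naturality_assoc,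
    RDer.homologyπ_homologyComparison, RDer.homologyπ_homologyComparison_assoc, ← Ψ.map_comp,
    homologyπ_naturality, Ψ.map_comp, ← Category.assoc, cyclesComparison_naturality, Category.assoc]

variable {A : Type u₁} [Category.{v₁} A] [Abelian A] (Φ : A ⥤ B) [Φ.Additive] [PreservesFiniteLimits Φ]
  {Θ : A ⥤ C} [Θ.Additive] [PreservesFiniteLimits Θ] (α : Φ ⋙ Ψ ⟶ Θ)

/-- The comparison for a composite is the composite of the comparisons. -/
theorem homologyComparison_comp (K : HomologicalComplex A c) (i : ι') :
    RDer.homologyComparison Ψ ((Φ.mapHomologicalComplex c).obj K) i ≫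
        Ψ.map (RDer.homologyComparison Φ K i) ≫ α.app (K.homology i) =
      homologyMap ((NatTrans.mapHomologicalComplex α c).app K) i ≫ RDer.homologyComparison Θ K i := by
  have hc : RDer.cyclesComparison Ψ ((Φ.mapHomologicalComplex c).obj K) i ≫
      Ψ.map (RDer.cyclesComparison Φ K i) ≫ α.app (K.cycles i) =
        cyclesMap ((NatTrans.mapHomologicalComplex α c).app K) i ≫ RDer.cyclesComparison Θ K i := by
    have hn := α.naturality (K.iCycles i)
    simp only [Functor.comp_map] at hn
    rw [← cancel_mono (Θ.map (K.iCycles i)), Category.assoc, Category.assoc, ← hn, ← Ψ.map_comp_assoc,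
      RDer.cyclesComparison_i, RDer.cyclesComparison_i_assoc, Category.assoc, RDer.cyclesComparison_i]
    erw [cyclesMap_i]
    rfl
  have hn := α.naturality (K.homologyπ i)
  simp only [Functor.comp_map] at hn
  rw [← cancel_epi (((Ψ.mapHomologicalComplex c).obj ((Φ.mapHomologicalComplex c).obj K)).homologyπ i),
    RDer.homologyπ_homologyComparison_assoc, ← Ψ.map_comp_assoc, RDer.homologyπ_homologyComparison,
    Ψ.map_comp, Category.assoc, hn, reassoc_of% hc]
  erw [homologyπ_naturality_assoc]
  rw [RDer.homologyπ_homologyComparison]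

end Comparison

end Groth.Agent.BCPaste8
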