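import Groth.Agent.Et18.IntegralPush
import Groth.Agent.Et18.PropBEpi
import Groth.Agent.Et18.H0Lift.FlatConnBC
import Mathlib.AlgebraicGeometry.Limits

/-!
# Direct image along an integral morphism reflects isomorphisms
-/

set_option autoImplicit false
set_option backward.isDefEq.respectTransparency false
set_option backward.isDefEq.respectTransparency.types false
set_option maxHeartbeats 800000

universe u

open CategoryTheory CategoryTheory.Limits AlgebraicGeometry Opposite TopologicalSpace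
open Groth.Agent

namespace Groth.Agent.BCPaste8

theorem etale_coprodDesc {X Y Z : Scheme.{u}} (p : Y ⟶ X) (q : Z ⟶ X) [Etale p] [Etale q] :
    Etale (coprod.desc p q) := by
  rw [IsZariskiLocalAtSource.iff_of_openCover (P := @Etale) (AlgebraicGeometry.coprodOpenCover.{_, 0} Y Z)]
  rintro (a | a)
  · show Etale (coprod.inl ≫ coprod.desc p q); rw [coprod.inl_desc]; infer_instance
  · show Etale (coprod.inr ≫ coprod.desc p q); rw [coprod.inr_desc]; infer_instance

/-- A map bijective on sections over an étale object is bijective over each clopen piece of it. -/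
theorem bijective_piece {X : Scheme.{u}} {A B : EtCoh.Ab X} (φ : A ⟶ B) (P : X.Etale)
    (W : P.left.Opens) (W' : P.left.Opens) (hd : Disjoint W W') (hc : W ⊔ W' = ⊤)
    (hb : Function.Bijective (φ.hom.app (op P))) :
    Function.Bijective (φ.hom.app (op (Et18.etalePiece P W))) := by
  let Ws : ULift.{u} Bool → P.left.Opens := fun b => cond b.down W W'
  have hdis : ∀ a b, a ≠ b → Disjoint (Ws a) (Ws b) := by
    rintro ⟨_ | _⟩ ⟨_ | _⟩ h
    · exact absurd rfl h
    · exact hd.symm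
    · exact hd
    · exact absurd rfl h
  have hcov : (⨆ a, Ws a) = ⊤ := by
    refine top_le_iff.1 (hc ▸ sup_le ?_ ?_)
    · exact le_iSup_of_le (f := Ws) ⟨true⟩ le_rfl
    · exact le_iSup_of_le (f := Ws) ⟨false⟩ le_rfl
  have hsh : ∀ F : EtCoh.Ab X,
      Presieve.IsSheaf X.smallEtaleTopology (F.obj ⋙ forget AddCommGrpCat.{u + 1}) := fun F =>
    (isSheaf_iff_isSheaf_of_type _ _).1
      ((sheafCompose X.smallEtaleTopology (forget AddCommGrpCat.{u + 1})).obj F).property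
  have hnat : ∀ (a : ULift.{u} Bool) (t : A.obj.obj (op P)),
      φ.hom.app (op (Et18.etalePiece P (Ws a))) (A.obj.map (Et18.etalePieceHom P (Ws a)).op t) =
        B.obj.map (Et18.etalePieceHom P (Ws a)).op (φ.hom.app (op P) t) := fun a t =>
    ConcreteCategory.congr_hom (φ.hom.naturality (Et18.etalePieceHom P (Ws a)).op) t
  refine ⟨(injective_iff_map_eq_zero (φ.hom.app (op (Et18.etalePiece P W))).hom).2 fun s hs => ?_,
    fun b => ?_⟩
  · let x : ∀ a, A.obj.obj (op (Et18.etalePiece P (Ws a))) := fun a =>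
      match a with
      | ⟨true⟩ => s
      | ⟨false⟩ => 0
    obtain ⟨t, ht⟩ := Et18.exists_glue_etalePieces (hsh A) P Ws hdis hcov x
    have h0 : φ.hom.app (op P) t = 0 := by
      refine (Et18.isSheafFor_etalePieces (hsh B) P Ws hcov).isSeparatedFor.ext fun Z k hk => ?_
      cases hk with
      | mk a =>
        refine Eq.trans ?_ (map_zero (B.obj.map (Et18.etalePieceHom P (Ws a)).op).hom).symm
        refine (hnat a t).symm.trans ?_
        refine (congrArg _ (ht a)).trans ?_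
        rcases a with ⟨_ | _⟩
        · exact map_zero (φ.hom.app (op (Et18.etalePiece P W'))).hom
        · exact hs
    have ht0 : t = 0 := hb.1 (h0.trans (map_zero (φ.hom.app (op P)).hom).symm)
    refine (ht ⟨true⟩).symm.trans ?_
    rw [ht0]
    exact map_zero (A.obj.map (Et18.etalePieceHom P W).op).hom
  · let x : ∀ a, B.obj.obj (op (Et18.etalePiece P (Ws a))) := fun a =>
      match a with
      | ⟨true⟩ => b
      | ⟨false⟩ => 0
    obtain ⟨t, ht⟩ := Et18.exists_glue_etalePieces (hsh B) P Ws hdis hcov x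
    obtain ⟨t', ht'⟩ := hb.2 t
    exact ⟨A.obj.map (Et18.etalePieceHom P W).op t',
      (hnat ⟨true⟩ t').trans ((congrArg _ ht').trans (ht ⟨true⟩))⟩

/-- Direct image along an integral morphism reflects isomorphisms. -/
theorem isIso_of_isIso_push {X Y : Scheme.{u}} (f : X ⟶ Y) [IsIntegralHom f] {A B : EtCoh.Ab X}
    (φ : A ⟶ B) (hφ : IsIso ((EtCoh.push f).map φ)) : IsIso φ := by
  have hbc : ∀ V : Y.Etale, Function.Bijective (φ.hom.app (op ((EtCoh.bc f).obj V))) := fun V => by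
    have h2 : IsIso (((EtCoh.push f).map φ).hom.app (op V)) :=
      inferInstanceAs (IsIso (((sheafToPresheaf _ _).map ((EtCoh.push f).map φ)).app (op V)))
    exact ConcreteCategory.bijective_of_isIso (((EtCoh.push f).map φ).hom.app (op V))
  refine Et18.H0Lift.isIso_of_cover_bijective φ fun U u => ?_
  haveI : Etale U.hom := U.prop
  obtain ⟨A₀, hA₀, hxA, -⟩ := exists_isAffineOpen_mem_and_subset (X := Y)
    (x := f (U.hom u)) (U := ⊤) trivial
  let Z : X.Opens := f ⁻¹ᵁ A₀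
  haveI : IsAffine A₀.toScheme := hA₀
  haveI : IsIntegralHom (f ∣_ A₀) := MorphismProperty.of_isPullback (P := @IsIntegralHom)
    (isPullback_morphismRestrict f A₀).flip inferInstance
  haveI : IsAffine Z.toScheme := isAffine_of_isAffineHom (f ∣_ A₀)
  obtain ⟨U₀, hU₀, huU₀, hU₀Z⟩ := exists_isAffineOpen_mem_and_subset (X := U.left)
    (x := u) (U := U.hom ⁻¹ᵁ Z) hxA
  haveI : IsAffine U₀.toScheme := hU₀
  let q₀ : U₀.toScheme ⟶ Z.toScheme := IsOpenImmersion.lift Z.ι (U₀.ι ≫ U.hom) (by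
    rw [Scheme.Opens.range_ι]
    rintro _ ⟨a, rfl⟩
    exact hU₀Z a.2)
  have hq₀ : q₀ ≫ Z.ι = U₀.ι ≫ U.hom := IsOpenImmersion.lift_fac _ _ _
  haveI : Etale q₀ := by
    haveI : Etale (q₀ ≫ Z.ι) := hq₀.symm ▸ inferInstance
    exact Etale.of_comp q₀ Z.ι
  let q : U₀.toScheme ⨿ Z.toScheme ⟶ Z.toScheme := coprod.desc q₀ (𝟙 _)
  haveI : Etale q := etale_coprodDesc _ _
  let wl : Spec (CommRingCat.of (AlgebraicClosure (U₀.toScheme.residueField ⟨u, huU₀⟩))) ⟶ U₀.toScheme :=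
    Et18.algPoint U₀.toScheme ⟨u, huU₀⟩
  obtain ⟨V', p, _, P, r, l, sqP, h, x, hh, hx⟩ := Et18.exists_affine_lift (f ∣_ A₀) q (wl ≫ coprod.inl)
    fun t _ => ⟨(coprod.inr : Z.toScheme ⟶ U₀.toScheme ⨿ Z.toScheme) t, by
      rw [← Scheme.Hom.comp_apply, coprod.inr_desc]; rfl⟩
  let Vy : Y.Etale := Scheme.Etale.mk (p ≫ A₀.ι)
  let Pb := (EtCoh.bc f).obj Vy
  have sqB : IsPullback (r ≫ Z.ι) l f (p ≫ A₀.ι) :=
    sqP.paste_horiz (isPullback_morphismRestrict f A₀).flip
  have sqPb : IsPullback (pullback.snd (p ≫ A₀.ι) f) (pullback.fst (p ≫ A₀.ι) f) f (p ≫ A₀.ι) :=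
    (IsPullback.of_hasPullback _ _).flip
  let e : Pb.left ≅ P := sqPb.isoIsPullback _ _ sqB
  have he : e.hom ≫ r ≫ Z.ι = Pb.hom := sqPb.isoIsPullback_hom_fst _ _ sqB
  let O₁ : (U₀.toScheme ⨿ Z.toScheme).Opens := (coprod.inl : U₀.toScheme ⟶ _).opensRange
  let O₂ : (U₀.toScheme ⨿ Z.toScheme).Opens := (coprod.inr : Z.toScheme ⟶ _).opensRange
  let W₁ : Pb.left.Opens := (e.hom ≫ h) ⁻¹ᵁ O₁
  let W₂ : Pb.left.Opens := (e.hom ≫ h) ⁻¹ᵁ O₂
  have hcompl := isCompl_opensRange_inl_inr U₀.toScheme Z.toScheme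
  have hd : Disjoint W₁ W₂ := by
    rw [disjoint_iff]
    show (e.hom ≫ h) ⁻¹ᵁ (O₁ ⊓ O₂) = ⊥
    rw [hcompl.inf_eq_bot]
    rfl
  have hc : W₁ ⊔ W₂ = ⊤ := by
    show (e.hom ≫ h) ⁻¹ᵁ (O₁ ⊔ O₂) = ⊤
    rw [hcompl.sup_eq_top]
    rfl
  let k : W₁.toScheme ⟶ U₀.toScheme := IsOpenImmersion.lift coprod.inl (W₁.ι ≫ e.hom ≫ h) (by
    rintro _ ⟨a, rfl⟩
    exact a.2)
  have hk : k ≫ coprod.inl = W₁.ι ≫ e.hom ≫ h := IsOpenImmersion.lift_fac _ _ _
  let i : Et18.etalePiece Pb W₁ ⟶ U := MorphismProperty.Over.homMk (k ≫ U₀.ι) (by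
    show (k ≫ U₀.ι) ≫ U.hom = W₁.ι ≫ Pb.hom
    rw [Category.assoc, ← hq₀, ← he, ← hh, ← coprod.inl_desc q₀ (𝟙 Z.toScheme)]
    simp only [q, Category.assoc]
    rw [reassoc_of% hk])
  have hz : (e.hom ≫ h) ((x ≫ e.inv) default) = (coprod.inl : U₀.toScheme ⟶ _) (wl default) := by
    rw [← Scheme.Hom.comp_apply, ← Scheme.Hom.comp_apply]
    simp only [Category.assoc, Iso.inv_hom_id_assoc, hx]
  let z : W₁.toScheme := ⟨(x ≫ e.inv) default, ⟨wl default, hz.symm⟩⟩
  refine ⟨_, i, z, ?_, bijective_piece φ Pb W₁ W₂ hd hc (hbc Vy)⟩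
  show U₀.ι (k z) = u
  have h1 : (coprod.inl : U₀.toScheme ⟶ U₀.toScheme ⨿ Z.toScheme) (k z) =
      (coprod.inl : U₀.toScheme ⟶ _) (wl default) := by
    rw [← Scheme.Hom.comp_apply, hk]
    exact hz
  rw [(coprod.inl : U₀.toScheme ⟶ U₀.toScheme ⨿ Z.toScheme).isOpenEmbedding.injective h1]
  exact congrArg Subtype.val (Et18.algPoint_default U₀.toScheme ⟨u, huU₀⟩)

end Groth.Agent.BCPaste8
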