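import Groth.Agent.BCPaste8.Cmp
import Groth.Prelude.Def_EtBC2

/-!
# The base change morphism computed on arbitrary resolutions
-/

set_option autoImplicit false
set_option backward.isDefEq.respectTransparency false
set_option backward.isDefEq.respectTransparency.types false
set_option backward.defeqAttrib.useBackward true
set_option linter.unusedSectionVars false
set_option maxHeartbeats 1000000

universe u

open CategoryTheory CategoryTheory.Limits AlgebraicGeometry HomologicalComplex

noncomputable section

namespace Groth.Agent.BCPaste8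

variable {X S X' S' : Scheme.{u}} (f : X ⟶ S) (g : S' ⟶ S) (f' : X' ⟶ S') (g' : X' ⟶ X)
  (w : g' ≫ f = f' ≫ g)

/-- `f_* g'_* ≅ g_* f'_*`. -/
abbrev sq : EtCoh.push g' ⋙ EtCoh.push f ≅ EtCoh.push f' ⋙ EtCoh.push g :=
  EtCoh.pushComp f g' ≪≫ EtCoh.pushCongr w ≪≫ (EtCoh.pushComp g f').symm

variable [PreservesFiniteLimits (EtCoh.pull g')] (q : ℕ) (F : EtCoh.Ab X)

/-- The map of complexes `f_* I ⟶ g_* f'_* J` underlying the base change morphism. -/
def chi {I : CochainComplex (EtCoh.Ab X) ℕ} {J : CochainComplex (EtCoh.Ab X') ℕ}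
    (r : I ⟶ ((EtCoh.push g').mapHomologicalComplex _).obj J) :
    ((EtCoh.push f).mapHomologicalComplex _).obj I ⟶
      ((EtCoh.push g).mapHomologicalComplex _).obj (((EtCoh.push f').mapHomologicalComplex _).obj J) :=
  ((EtCoh.push f).mapHomologicalComplex _).map r ≫
    (NatTrans.mapHomologicalComplex (sq f g f' g' w).hom (ComplexShape.up ℕ)).app J

omit [PreservesFiniteLimits (EtCoh.pull g')] in
theorem chi_f {I : CochainComplex (EtCoh.Ab X) ℕ} {J : CochainComplex (EtCoh.Ab X') ℕ}
    (r : I ⟶ ((EtCoh.push g').mapHomologicalComplex _).obj J) (k : ℕ) :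
    (chi f g f' g' w r).f k = (EtCoh.push f).map (r.f k) ≫ (sq f g f' g' w).hom.app (J.X k) := rfl

omit [PreservesFiniteLimits (EtCoh.pull g')] in
theorem chi_comp {I : CochainComplex (EtCoh.Ab X) ℕ} {J J' : CochainComplex (EtCoh.Ab X') ℕ}
    (r : I ⟶ ((EtCoh.push g').mapHomologicalComplex _).obj J) (d : J ⟶ J') :
    chi f g f' g' w (r ≫ ((EtCoh.push g').mapHomologicalComplex _).map d) =
      chi f g f' g' w r ≫ ((EtCoh.push g).mapHomologicalComplex _).map
        (((EtCoh.push f').mapHomologicalComplex _).map d) := by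
  ext k : 1
  have h := (sq f g f' g' w).hom.naturality (d.f k)
  simp only [Functor.comp_map] at h
  simp only [chi_f, HomologicalComplex.comp_f, Functor.map_comp, Category.assoc,
    Functor.mapHomologicalComplex_map_f]
  rw [h]

/-- `bcQAdj` on the chosen resolutions. -/
theorem bcQAdj_eq_chosen :
    ∃ r : (injectiveResolution F).cocomplex ⟶ ((EtCoh.push g').mapHomologicalComplex _).obj
        (injectiveResolution ((EtCoh.pull g').obj F)).cocomplex,
      (injectiveResolution F).ι.f 0 ≫ r.f 0 = (EtCoh.pullPushAdj g').unit.app F ≫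
          (EtCoh.push g').map ((injectiveResolution ((EtCoh.pull g').obj F)).ι.f 0) ∧
      EtBC.bcQAdj f g f' g' w q F =
        ((injectiveResolution F).isoRightDerivedObj (EtCoh.push f) q).hom ≫
          (homologyMap (chi f g f' g' w r) q ≫ RDer.homologyComparison (EtCoh.push g)
            (((EtCoh.push f').mapHomologicalComplex _).obj
              (injectiveResolution ((EtCoh.pull g').obj F)).cocomplex) q) ≫
          (EtCoh.push g).map
            ((injectiveResolution ((EtCoh.pull g').obj F)).isoRightDerivedObj (EtCoh.push f') q).inv := by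
  let G := (EtCoh.pull g').obj F
  let η := (EtCoh.pullPushAdj g').unit.app F
  let I := injectiveResolution F
  let P := injectiveResolution ((EtCoh.push g').obj G)
  let J := injectiveResolution G
  let φ := InjectiveResolution.desc η P I
  let ψ := RDer.descToInjectives (𝟙 ((EtCoh.push g').obj G)) P.cocomplex P.ι
    (((EtCoh.push g').mapHomologicalComplex _).obj J.cocomplex) (RDer.mapAug (EtCoh.push g') J.ι)
  refine ⟨φ ≫ ψ, ?_, ?_⟩
  · show I.ι.f 0 ≫ φ.f 0 ≫ ψ.f 0 = _
    rw [InjectiveResolution.desc_commutes_zero_assoc]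
    refine (Category.assoc _ _ _).trans ?_
    refine congrArg (fun z => η ≫ z) ?_
    refine (RDer.ι_descToInjectives_f_zero (𝟙 ((EtCoh.push g').obj G)) P.cocomplex P.ι
      (((EtCoh.push g').mapHomologicalComplex _).obj J.cocomplex)
      (RDer.mapAug (EtCoh.push g') J.ι)).trans ((Category.id_comp _).trans ?_)
    simp [HomologicalComplex.singleMapHomologicalComplex_inv_app_self]
    rfl
  · have h1 := InjectiveResolution.isoRightDerivedObj_hom_naturality η I P φ
      (InjectiveResolution.desc_commutes_zero η P I) (EtCoh.push f) q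
    have h2 := InjectiveResolution.rightDerived_app_eq (sq f g f' g' w).hom J q
    show (EtCoh.Rpush f q).map η ≫ RDer.edgeIn (EtCoh.push g') (EtCoh.push f) q G ≫
      (RDer.rightDerivedIso (sq f g f' g' w) q).hom.app G ≫
        RDer.edgeOut (EtCoh.push f') (EtCoh.push g) q G = _
    dsimp only [RDer.edgeIn, RDer.edgeOut, RDer.rightDerivedIso]
    erw [h2]
    simp only [Category.assoc]
    erw [reassoc_of% h1]
    erw [Iso.inv_hom_id_assoc]
    erw [Iso.inv_hom_id_assoc]
    simp only [chi, Functor.map_comp, homologyMap_comp, Category.assoc]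
    rfl

/-- `bcQAdj` on any resolutions, by any compatible map. -/
theorem bcQAdj_eq (J : InjectiveResolution ((EtCoh.pull g').obj F))
    (r : (injectiveResolution F).cocomplex ⟶ ((EtCoh.push g').mapHomologicalComplex _).obj J.cocomplex)
    (hr : (injectiveResolution F).ι.f 0 ≫ r.f 0 =
      (EtCoh.pullPushAdj g').unit.app F ≫ (EtCoh.push g').map (J.ι.f 0)) :
    EtBC.bcQAdj f g f' g' w q F =
      ((injectiveResolution F).isoRightDerivedObj (EtCoh.push f) q).hom ≫
        (homologyMap (chi f g f' g' w r) q ≫ RDer.homologyComparison (EtCoh.push g)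
          (((EtCoh.push f').mapHomologicalComplex _).obj J.cocomplex) q) ≫
        (EtCoh.push g).map (J.isoRightDerivedObj (EtCoh.push f') q).inv := by
  obtain ⟨r₀, hr₀, h₀⟩ := bcQAdj_eq_chosen f g f' g' w q F
  let G := (EtCoh.pull g').obj F
  let J₀ := injectiveResolution G
  let d := InjectiveResolution.desc (𝟙 G) J₀ J
  have hd : J.ι.f 0 ≫ d.f 0 = 𝟙 G ≫ J₀.ι.f 0 := InjectiveResolution.desc_commutes_zero (𝟙 G) J₀ J
  let r' := r ≫ ((EtCoh.push g').mapHomologicalComplex (ComplexShape.up ℕ)).map d
  have hr' : (injectiveResolution F).ι.f 0 ≫ r'.f 0 = (injectiveResolution F).ι.f 0 ≫ r₀.f 0 := by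
    show (injectiveResolution F).ι.f 0 ≫ r.f 0 ≫ (EtCoh.push g').map (d.f 0) = _
    rw [hr₀, reassoc_of% hr, ← Functor.map_comp]
    exact congrArg (fun z => (EtCoh.pullPushAdj g').unit.app F ≫ (EtCoh.push g').map z)
      (hd.trans (Category.id_comp _))
  have he : homologyMap (chi f g f' g' w r₀) q = homologyMap (chi f g f' g' w r') q := by
    have h := homologyMap_lift_eq (injectiveResolution F)
      (((EtCoh.push g').mapHomologicalComplex _).obj J₀.cocomplex) (EtCoh.push f) r' r₀ hr' q
    rw [chi, chi, homologyMap_comp, homologyMap_comp, h]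
  have hn : (J.isoRightDerivedObj (EtCoh.push f') q).inv =
      homologyMap (((EtCoh.push f').mapHomologicalComplex _).map d) q ≫
        (J₀.isoRightDerivedObj (EtCoh.push f') q).inv := by
    refine Eq.trans ?_ (InjectiveResolution.isoRightDerivedObj_inv_naturality (𝟙 G) J J₀ d hd
      (EtCoh.push f') q)
    rw [CategoryTheory.Functor.map_id, Category.comp_id]
  have hnat := homologyComparison_naturality (EtCoh.push g)
    (((EtCoh.push f').mapHomologicalComplex (ComplexShape.up ℕ)).map d) q
  rw [h₀, he, hn, Functor.map_comp, chi_comp, homologyMap_comp]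
  simp only [Category.assoc]
  refine congrArg (fun z => ((injectiveResolution F).isoRightDerivedObj (EtCoh.push f) q).hom ≫
    homologyMap (chi f g f' g' w r) q ≫ z) ?_
  exact (Category.assoc _ _ _).symm.trans
    ((congrArg (· ≫ (EtCoh.push g).map (J₀.isoRightDerivedObj (EtCoh.push f') q).inv) hnat).trans (Category.assoc _ _ _))

end Groth.Agent.BCPaste8
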