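import Groth.Agent.BCPaste8.Formula
import Groth.Agent.BCPaste8.Conservative
import Groth.Agent.Et18.FinitePush
import Groth.Agent.Et18.H0Lift.ProperBC0
import Groth.Agent.CohDer1.BCFlat.Adjoint

/-!
# Horizontal composition with an integral base map
-/

set_option autoImplicit false
set_option backward.isDefEq.respectTransparency false
set_option backward.isDefEq.respectTransparency.types false
set_option backward.defeqAttrib.useBackward true
set_option linter.unusedSectionVars false
set_option maxHeartbeats 1000000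

universe u

open CategoryTheory CategoryTheory.Limits AlgebraicGeometry Opposite HomologicalComplex
open Groth.Agent

noncomputable section

namespace Groth.Agent.BCPaste8

theorem etale_comp_left' {X : Scheme.{u}} {a b c : X.Etale} (p : a ⟶ b) (q : b ⟶ c) :
    (p ≫ q).left = p.left ≫ q.left := rfl

/-- For an exact functor the comparison on homology is invertible. -/
theorem isIso_homologyComparison_of_exact {B : Type*} [Category B] [Abelian B] {C : Type*} [Category C]
    [Abelian C] (Ψ : B ⥤ C) [Ψ.Additive] [PreservesFiniteLimits Ψ] [Ψ.PreservesHomology]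
    {ι : Type*} {c : ComplexShape ι} (K : HomologicalComplex B c) (i : ι) :
    IsIso (RDer.homologyComparison Ψ K i) := by
  have h : RDer.homologyComparison Ψ K i = ((K.sc i).mapHomologyIso Ψ).hom := by
    rw [← cancel_epi (((Ψ.mapHomologicalComplex c).obj K).homologyπ i), RDer.homologyπ_homologyComparison]
    refine Eq.trans ?_ (CohDer1.BCFlat.homologyπ_mapHomologyIso_hom (K.sc i) Ψ).symm
    refine congrArg (· ≫ Ψ.map (K.homologyπ i)) ?_
    rw [← cancel_mono (Ψ.map (K.iCycles i)), RDer.cyclesComparison_i]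
    exact ((K.sc i).mapCyclesIso_hom_iCycles Ψ).symm
  rw [h]
  exact Iso.isIso_hom _

variable {S' X' S'' X'' T Y : Scheme.{u}} (π : S'' ⟶ S') (f' : X' ⟶ S') (f'' : X'' ⟶ S'') (π' : X'' ⟶ X')
  (w₂ : f'' ≫ π = π' ≫ f') (g' : T ⟶ S'') (h' : Y ⟶ X'') (e : Y ⟶ T) (w : e ≫ g' = h' ≫ f'')
  (w₃ : e ≫ g' ≫ π = (h' ≫ π') ≫ f')

/-- Horizontal pasting of the square isomorphisms. -/
theorem sq_hpaste (M : EtCoh.Ab Y) :
    (EtCoh.pushComp π g').hom.app ((EtCoh.push e).obj M) ≫ (sq (g' ≫ π) f' (h' ≫ π') e w₃).hom.app M =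
      (EtCoh.push π).map ((sq g' f'' h' e w).hom.app M) ≫ (sq π f' π' f'' w₂).hom.app ((EtCoh.push h').obj M) ≫
        (EtCoh.push f').map ((EtCoh.pushComp π' h').hom.app M) := by
  apply Sheaf.hom_ext
  ext V : 2
  dsimp [sq, EtCoh.pushComp, EtCoh.pushCongr, Functor.sheafPushforwardContinuousComp',
    Functor.sheafPushforwardContinuousIso, Functor.sheafPushforwardContinuousComp]
  simp only [← Functor.map_comp, Category.id_comp, Category.comp_id]
  refine congrArg M.obj.map (Quiver.Hom.unop_inj ?_)
  apply MorphismProperty.Over.Hom.ext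
  simp only [EtCoh.bc, unop_comp, Quiver.Hom.unop_op, etale_comp_left', Category.assoc]
  repeat (any_goals apply pullback.hom_ext)
  all_goals simp [MorphismProperty.Over.pullbackCongr, w]

variable [PreservesFiniteLimits (EtCoh.pull e)] (q : ℕ) (F : EtCoh.Ab T)

/-- The outer adjoint base change map in terms of the inner one. -/
theorem bcQAdj_hpaste [IsIntegralHom π] [IsIntegralHom π'] :
    ∃ (α : (EtCoh.Rpush (g' ≫ π) q).obj F ⟶ (EtCoh.push π).obj ((EtCoh.Rpush g' q).obj F))
      (β : (EtCoh.push π').obj ((EtCoh.Rpush h' q).obj ((EtCoh.pull e).obj F)) ⟶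
        (EtCoh.Rpush (h' ≫ π') q).obj ((EtCoh.pull e).obj F)),
      IsIso α ∧ IsIso β ∧
      EtBC.bcQAdj (g' ≫ π) f' (h' ≫ π') e w₃ q F =
        α ≫ (EtCoh.push π).map (EtBC.bcQAdj g' f'' h' e w q F) ≫
          (sq π f' π' f'' w₂).hom.app _ ≫ (EtCoh.push f').map β := by
  obtain ⟨r, hr, h₁⟩ := bcQAdj_eq_chosen g' f'' h' e w q F
  let I := injectiveResolution F
  let J := injectiveResolution ((EtCoh.pull e).obj F)
  have h₃ := bcQAdj_eq (g' ≫ π) f' (h' ≫ π') e w₃ q F J r hr
  haveI := Et18.push_preservesHomology_of_integral π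
  haveI := Et18.push_preservesHomology_of_integral π'
  let K := ((EtCoh.push h').mapHomologicalComplex (ComplexShape.up ℕ)).obj J.cocomplex
  let G := ((EtCoh.push g').mapHomologicalComplex (ComplexShape.up ℕ)).obj I.cocomplex
  haveI : IsIso (RDer.homologyComparison (EtCoh.push π') K q) := isIso_homologyComparison_of_exact _ _ _
  haveI : IsIso (RDer.homologyComparison (EtCoh.push π) G q) := isIso_homologyComparison_of_exact _ _ _
  let pI := (NatTrans.mapHomologicalComplex (EtCoh.pushComp π g').hom (ComplexShape.up ℕ)).app I.cocomplex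
  let pJ := (NatTrans.mapHomologicalComplex (EtCoh.pushComp π' h').hom (ComplexShape.up ℕ)).app J.cocomplex
  haveI : IsIso pI :=
    haveI : ∀ n, IsIso (pI.f n) := fun n => inferInstanceAs (IsIso ((EtCoh.pushComp π g').hom.app _))
    HomologicalComplex.Hom.isIso_of_components _
  haveI : IsIso pJ :=
    haveI : ∀ n, IsIso (pJ.f n) := fun n => inferInstanceAs (IsIso ((EtCoh.pushComp π' h').hom.app _))
    HomologicalComplex.Hom.isIso_of_components _
  haveI : IsIso (homologyMap pI q) := inferInstance
  haveI : IsIso (homologyMap pJ q) := inferInstance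
  let α := (I.isoRightDerivedObj (EtCoh.push (g' ≫ π)) q).hom ≫ inv (homologyMap pI q) ≫
    RDer.homologyComparison (EtCoh.push π) G q ≫
      (EtCoh.push π).map (I.isoRightDerivedObj (EtCoh.push g') q).inv
  let β := (EtCoh.push π').map (J.isoRightDerivedObj (EtCoh.push h') q).hom ≫
    inv (RDer.homologyComparison (EtCoh.push π') K q) ≫ homologyMap pJ q ≫
      (J.isoRightDerivedObj (EtCoh.push (h' ≫ π')) q).inv
  refine ⟨α, β, inferInstance, inferInstance, ?_⟩
  have hχ : pI ≫ chi (g' ≫ π) f' (h' ≫ π') e w₃ r =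
      ((EtCoh.push π).mapHomologicalComplex _).map (chi g' f'' h' e w r) ≫
        (NatTrans.mapHomologicalComplex (sq π f' π' f'' w₂).hom (ComplexShape.up ℕ)).app K ≫
          ((EtCoh.push f').mapHomologicalComplex _).map pJ := by
    ext n : 1
    have hn := (EtCoh.pushComp π g').hom.naturality (r.f n)
    simp only [Functor.comp_map] at hn
    show (EtCoh.pushComp π g').hom.app (I.cocomplex.X n) ≫ (EtCoh.push (g' ≫ π)).map (r.f n) ≫
      (sq (g' ≫ π) f' (h' ≫ π') e w₃).hom.app (J.cocomplex.X n) =
      (EtCoh.push π).map ((EtCoh.push g').map (r.f n) ≫ (sq g' f'' h' e w).hom.app (J.cocomplex.X n)) ≫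
        (sq π f' π' f'' w₂).hom.app ((EtCoh.push h').obj (J.cocomplex.X n)) ≫
          (EtCoh.push f').map ((EtCoh.pushComp π' h').hom.app (J.cocomplex.X n))
    rw [← reassoc_of% hn, Functor.map_comp, Category.assoc]
    exact congrArg (fun z => (EtCoh.push π).map ((EtCoh.push g').map (r.f n)) ≫ z)
      (sq_hpaste π f' f'' π' w₂ g' h' e w w₃ (J.cocomplex.X n))
  have hH : homologyMap (chi (g' ≫ π) f' (h' ≫ π') e w₃ r) q = inv (homologyMap pI q) ≫
      homologyMap (((EtCoh.push π).mapHomologicalComplex _).map (chi g' f'' h' e w r)) q ≫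
        homologyMap ((NatTrans.mapHomologicalComplex (sq π f' π' f'' w₂).hom (ComplexShape.up ℕ)).app K) q ≫
          homologyMap (((EtCoh.push f').mapHomologicalComplex _).map pJ) q := by
    rw [IsIso.eq_inv_comp, ← homologyMap_comp, hχ, homologyMap_comp, homologyMap_comp]
  haveI : PreservesFiniteLimits (EtCoh.push π' ⋙ EtCoh.push f') := inferInstance
  have hcompπ := homologyComparison_comp (EtCoh.push π) (EtCoh.push f'') (sq π f' π' f'' w₂).hom K q
  have hcompf := homologyComparison_comp (EtCoh.push f') (EtCoh.push π')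
    (𝟙 (EtCoh.push π' ⋙ EtCoh.push f')) K q
  have hid : homologyMap ((NatTrans.mapHomologicalComplex (𝟙 (EtCoh.push π' ⋙ EtCoh.push f'))
      (ComplexShape.up ℕ)).app K) q = 𝟙 _ := by
    rw [NatTrans.mapHomologicalComplex_id]
    exact homologyMap_id _ q
  simp only [hid, NatTrans.id_app, Functor.comp_obj, Category.id_comp, Category.comp_id] at hcompf
  rw [← hcompf] at hcompπ
  have hmid : homologyMap ((NatTrans.mapHomologicalComplex (sq π f' π' f'' w₂).hom (ComplexShape.up ℕ)).app K) q ≫
      RDer.homologyComparison (EtCoh.push f') (((EtCoh.push π').mapHomologicalComplex _).obj K) q =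
        RDer.homologyComparison (EtCoh.push π) (((EtCoh.push f'').mapHomologicalComplex _).obj K) q ≫
          (EtCoh.push π).map (RDer.homologyComparison (EtCoh.push f'') K q) ≫
            (sq π f' π' f'' w₂).hom.app (K.homology q) ≫
              (EtCoh.push f').map (inv (RDer.homologyComparison (EtCoh.push π') K q)) := by
    rw [← cancel_mono ((EtCoh.push f').map (RDer.homologyComparison (EtCoh.push π') K q))]
    simp only [Category.assoc, ← Functor.map_comp, IsIso.inv_hom_id]
    rw [CategoryTheory.Functor.map_id]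
    erw [Category.comp_id]
    exact hcompπ.symm
  have hn1 := homologyComparison_naturality (EtCoh.push π) (chi g' f'' h' e w r) q
  have hn2 := homologyComparison_naturality (EtCoh.push f') pJ q
  have hsq := (sq π f' π' f'' w₂).hom.naturality (J.isoRightDerivedObj (EtCoh.push h') q).inv
  simp only [Functor.comp_map] at hsq
  rw [h₃, h₁, hH]
  simp only [α, β, Functor.map_comp, Category.assoc]
  refine congrArg (fun z => (I.isoRightDerivedObj (EtCoh.push (g' ≫ π)) q).hom ≫
    inv (homologyMap pI q) ≫ z) ?_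
  erw [reassoc_of% hn2, reassoc_of% hmid, reassoc_of% hn1]
  rw [← Functor.map_comp_assoc (EtCoh.push π) (I.isoRightDerivedObj (EtCoh.push g') q).inv,
    Iso.inv_hom_id, CategoryTheory.Functor.map_id, Category.id_comp]
  erw [reassoc_of% hsq]
  rw [← Functor.map_comp_assoc (EtCoh.push f') ((EtCoh.push π').map (J.isoRightDerivedObj (EtCoh.push h') q).inv),
    ← Functor.map_comp (EtCoh.push π'),
    Iso.inv_hom_id, CategoryTheory.Functor.map_id, CategoryTheory.Functor.map_id, Category.id_comp]
  rfl

/-- The inner base change map is an isomorphism if the outer one is. -/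
theorem isIso_bcQ_of_integral_base [IsIntegralHom π] (c₂ : IsPullback π' f'' f' π)
    (hiso : IsIso (EtBC.bcQ (g' ≫ π) f' (h' ≫ π') e w₃ q F)) :
    IsIso (EtBC.bcQ g' f'' h' e w q F) := by
  haveI : IsIntegralHom π' := MorphismProperty.of_isPullback (P := @IsIntegralHom) c₂.flip inferInstance
  obtain ⟨α, β, hα, hβ, heq⟩ := bcQAdj_hpaste π f' f'' π' c₂.w.symm g' h' e w w₃ q F
  let adj := EtCoh.pullPushAdj f'
  let A := (EtCoh.Rpush g' q).obj F
  let b := EtBC.bcQ g' f'' h' e w q F
  have hb : (EtCoh.pullPushAdj f'').unit.app A ≫ (EtCoh.push f'').map b = EtBC.bcQAdj g' f'' h' e w q F :=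
    ((EtCoh.pullPushAdj f'').homEquiv_unit _ _ _).symm.trans (Equiv.apply_symm_apply _ _)
  have hs := (sq π f' π' f'' c₂.w.symm).hom.naturality b
  simp only [Functor.comp_map] at hs
  have key : EtBC.bcQ (g' ≫ π) f' (h' ≫ π') e w₃ q F =
      (EtCoh.pull f').map α ≫ EtCoh.baseChange0 π f' π' f'' c₂.flip.w A ≫
        (EtCoh.push π').map b ≫ β := by
    refine (adj.homEquiv _ _).injective ?_
    refine ((Equiv.apply_symm_apply _ _).trans heq).trans ?_
    rw [Adjunction.homEquiv_naturality_left, Adjunction.homEquiv_naturality_right]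
    refine congrArg (α ≫ ·) ?_
    rw [← hb, Functor.map_comp, Functor.map_comp (EtCoh.push f'), Category.assoc, reassoc_of% hs]
    refine Eq.trans ?_ (congrArg (· ≫ (EtCoh.push f').map ((EtCoh.push π').map b) ≫ (EtCoh.push f').map β)
      ((Equiv.apply_symm_apply (adj.homEquiv _ _) _).symm))
    simp [sq]
    rfl
  haveI : IsIso (EtCoh.baseChange0 π f' π' f'' c₂.flip.w A) :=
    Et18.H0Lift.isIso_baseChange0_of_isIntegralHom A π f' π' f'' c₂.flip
  rw [key] at hiso
  have h2 := IsIso.of_isIso_comp_left ((EtCoh.pull f').map α)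
    (EtCoh.baseChange0 π f' π' f'' c₂.flip.w A ≫ (EtCoh.push π').map b ≫ β)
  have h3 := IsIso.of_isIso_comp_left (EtCoh.baseChange0 π f' π' f'' c₂.flip.w A)
    ((EtCoh.push π').map b ≫ β)
  exact isIso_of_isIso_push π' b (IsIso.of_isIso_comp_right _ β)

end Groth.Agent.BCPaste8
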