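import Groth.Agent.BCPaste8.Paste
import Groth.Agent.Et18.BCPasteSh
import Groth.Agent.Et18.H0Lift.FlatConnBC
import Groth.Agent.Et18.ExtZero
import Groth.Agent.Et18.JCont
import Groth.Agent.CohDer1.BCFlat.Adjoint

/-!
# Base change morphisms in each degree are étale local
-/

set_option autoImplicit false
set_option backward.isDefEq.respectTransparency false
set_option backward.isDefEq.respectTransparency.types false
set_option backward.defeqAttrib.useBackward true
set_option linter.unusedSectionVars false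
set_option maxHeartbeats 1000000

universe u

open CategoryTheory CategoryTheory.Limits AlgebraicGeometry Opposite HomologicalComplex
open Groth.Agent

noncomputable section

namespace Groth.Agent.BCPaste8

/-- Inverse image along an étale morphism preserves injectives. -/
theorem injective_pull_of_etale {U X : Scheme.{u}} (j : U ⟶ X) [Etale j] (I : EtCoh.Ab X) [Injective I] :
    Injective ((EtCoh.pull j).obj I) := by
  haveI : EtShriek.JCont j := Et18.jCont j
  let adj : EtShriek.extZero j ⊣ EtCoh.pull j :=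
    (EtShriek.extZeroAdj j).ofNatIsoRight (Et18.pullRestrIso j).symm
  haveI : (EtCoh.pull j).PreservesInjectiveObjects :=
    Functor.preservesInjectiveObjects_of_adjunction_of_preservesMonomorphisms adj
  exact (EtCoh.pull j).injective_obj I

/-- Degree-zero base change along an étale morphism. -/
theorem isIso_baseChange0_of_etale {X S Y T : Scheme.{u}} (f : X ⟶ S) [Etale f] (g : T ⟶ S) (h : Y ⟶ X)
    (e : Y ⟶ T) (c : IsPullback e h g f) (F : EtCoh.Ab T) :
    IsIso (EtCoh.baseChange0 g f h e c.w F) := by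
  refine Et18.H0Lift.isIso_of_cover_bijective _ fun U y => ⟨U, 𝟙 U, y, rfl, ?_⟩
  haveI : Etale U.hom := U.prop
  let V : S.Etale := Scheme.Etale.mk (U.hom ≫ f)
  haveI : GeometricallyConnected (𝟙 U.left) := Et18.BCPaste.geometricallyConnected_id _
  exact Et18.H0Lift.bijective_baseChange0_app e F f g h c U V (𝟙 U.left) (Category.id_comp _)

/-- Base change along an étale morphism in every degree. -/
theorem isIso_bcQ_of_etale {X S Y T : Scheme.{u}} (f : X ⟶ S) [Etale f] (g : T ⟶ S) (h : Y ⟶ X)
    (e : Y ⟶ T) (c : IsPullback e h g f) [PreservesFiniteLimits (EtCoh.pull e)] (q : ℕ) (F : EtCoh.Ab T) :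
    IsIso (EtBC.bcQ g f h e c.w q F) := by
  haveI : Etale e := MorphismProperty.of_isPullback (P := @Etale) c.flip ‹Etale f›
  haveI : PreservesColimitsOfSize.{0, 0} (EtCoh.pull f) := (EtCoh.pullPushAdj f).leftAdjoint_preservesColimits
  haveI : PreservesFiniteColimits (EtCoh.pull f) := PreservesColimitsOfSize.preservesFiniteColimits _
  haveI : PreservesColimitsOfSize.{0, 0} (EtCoh.pull e) := (EtCoh.pullPushAdj e).leftAdjoint_preservesColimits
  haveI : PreservesFiniteColimits (EtCoh.pull e) := PreservesColimitsOfSize.preservesFiniteColimits _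
  let adj := EtCoh.pullPushAdj f
  let I := injectiveResolution F
  let J : InjectiveResolution ((EtCoh.pull e).obj F) :=
    { cocomplex := ((EtCoh.pull e).mapHomologicalComplex _).obj I.cocomplex
      injective := fun n => injective_pull_of_etale e (I.cocomplex.X n)
      ι := RDer.mapAug (EtCoh.pull e) I.ι }
  let r : I.cocomplex ⟶ ((EtCoh.push e).mapHomologicalComplex _).obj J.cocomplex :=
    { f := fun n => (EtCoh.pullPushAdj e).unit.app (I.cocomplex.X n)
      comm' := fun a b _ => ((EtCoh.pullPushAdj e).unit.naturality (I.cocomplex.d a b)).symm }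
  have hr : I.ι.f 0 ≫ r.f 0 = (EtCoh.pullPushAdj e).unit.app F ≫ (EtCoh.push e).map (J.ι.f 0) := by
    refine ((EtCoh.pullPushAdj e).unit.naturality (I.ι.f 0)).trans ?_
    refine congrArg (fun z => (EtCoh.pullPushAdj e).unit.app F ≫ (EtCoh.push e).map z) ?_
    simp [J, HomologicalComplex.singleMapHomologicalComplex_inv_app_self]
  let χ := chi g f h e c.w r
  haveI : IsIso (CohDer1.BCFlat.transposeHom adj χ) := by
    haveI : ∀ n, IsIso ((CohDer1.BCFlat.transposeHom adj χ).f n) := fun n => by
      have hn : (CohDer1.BCFlat.transposeHom adj χ).f n = EtCoh.baseChange0 g f h e c.w (I.cocomplex.X n) :=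
        (adj.homEquiv_counit _ _ _).symm
      rw [hn]
      exact isIso_baseChange0_of_etale f g h e c _
    exact HomologicalComplex.Hom.isIso_of_components _
  haveI : IsIso (homologyMap (CohDer1.BCFlat.transposeHom adj χ) q) := inferInstance
  have key := CohDer1.BCFlat.map_homologyMap_comparison adj χ q
  have hn := adj.counit.naturality (J.isoRightDerivedObj (EtCoh.push h) q).inv
  simp only [Functor.comp_map, Functor.id_map] at hn
  have heq : EtBC.bcQ g f h e c.w q F =
      (EtCoh.pull f).map (I.isoRightDerivedObj (EtCoh.push g) q).hom ≫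
        (((((EtCoh.push g).mapHomologicalComplex _).obj I.cocomplex).sc q).mapHomologyIso (EtCoh.pull f)).inv ≫
          homologyMap (CohDer1.BCFlat.transposeHom adj χ) q ≫
            (J.isoRightDerivedObj (EtCoh.push h) q).inv := by
    refine (adj.homEquiv_counit _ _ _).trans ?_
    rw [bcQAdj_eq g f h e c.w q F J r hr]
    simp only [Functor.map_comp, Category.assoc]
    refine congrArg (fun z => (EtCoh.pull f).map (I.isoRightDerivedObj (EtCoh.push g) q).hom ≫ z) ?_
    erw [hn]
    rw [← Category.assoc, ← Category.assoc, ← Functor.map_comp]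
    erw [key]
    exact Category.assoc _ _ _
  rw [heq]
  infer_instance

/-- Isomorphisms of abelian sheaves are local for étale covers. -/
theorem isIso_of_etale_cover {X : Scheme.{u}} {ι : Type u} (U : ι → X.Etale) (hU : EtCoh.Covers U)
    {A B : EtCoh.Ab X} (φ : A ⟶ B) (h : ∀ i, IsIso ((EtCoh.pull (U i).hom).map φ)) : IsIso φ := by
  choose i y hy using hU
  let s := fun x : ULift.{u + 1} X => Et18.sepPoint ((U (i x.down)).left) (y x.down) ≫ (U (i x.down)).hom
  have hs : ∀ x : X, ∃ j, s j default = x := fun x => ⟨⟨x⟩, by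
    refine (congrArg (U (i x)).hom (Et18.sepPoint_default _ _)).trans (hy x)⟩
  refine Et18.isIso_of_stalks_family s hs φ fun x => ?_
  have := h (i x.down)
  exact (NatIso.isIso_map_iff (Et18.stalkPullIso (U (i x.down)).hom (Et18.sepPoint _ (y x.down))) φ).mp
    (inferInstanceAs (IsIso ((EtCoh.stalk (Et18.sepPoint _ (y x.down))).map
      ((EtCoh.pull (U (i x.down)).hom).map φ))))

theorem isIso_bcQ_congr {X S Y T : Scheme.{u}} {f f' : X ⟶ S} (hf : f = f') (g : T ⟶ S) (h : Y ⟶ X)
    {e e' : Y ⟶ T} (he : e = e') (w : e ≫ g = h ≫ f) (w' : e' ≫ g = h ≫ f')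
    [PreservesFiniteLimits (EtCoh.pull e)] [PreservesFiniteLimits (EtCoh.pull e')] (q : ℕ) (F : EtCoh.Ab T)
    (hiso : IsIso (EtBC.bcQ g f h e w q F)) : IsIso (EtBC.bcQ g f' h e' w' q F) := by
  subst hf he
  exact hiso

/-- The base change morphism is an isomorphism if it is so étale locally. -/
theorem isIso_bcQ_of_etale_local {X S Y T : Scheme.{u}} (f : X ⟶ S) (g : T ⟶ S) (h : Y ⟶ X) (e : Y ⟶ T)
    (c : IsPullback e h g f) [PreservesFiniteLimits (EtCoh.pull e)] (F : EtCoh.Ab T) (q : ℕ)
    {ι : Type u} (U : ι → X.Etale) (hU : EtCoh.Covers U) (V : ι → S.Etale)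
    (a : ∀ i, (U i).left ⟶ (V i).left) (ha : ∀ i, a i ≫ (V i).hom = (U i).hom ≫ f)
    (Ti Yi : ι → Scheme.{u}) (gi : ∀ i, Ti i ⟶ (V i).left) (ti : ∀ i, Ti i ⟶ T)
    (cT : ∀ i, IsPullback (ti i) (gi i) g (V i).hom)
    (hi : ∀ i, Yi i ⟶ (U i).left) (ei : ∀ i, Yi i ⟶ Ti i)
    (cY : ∀ i, IsPullback (ei i) (hi i) (gi i) (a i)) [∀ i, PreservesFiniteLimits (EtCoh.pull (ei i))]
    (hloc : ∀ i, IsIso (EtBC.bcQ (gi i) (a i) (hi i) (ei i) (cY i).w q ((EtCoh.pull (ti i)).obj F))) :
    IsIso (EtBC.bcQ g f h e c.w q F) := by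
  refine isIso_of_etale_cover U hU _ fun i => ?_
  haveI : Etale (U i).hom := (U i).prop
  haveI : Etale (V i).hom := (V i).prop
  have hout : IsPullback (ei i ≫ ti i) (hi i) g ((U i).hom ≫ f) := ha i ▸ (cY i).paste_horiz (cT i)
  let π : Yi i ⟶ Y := c.lift (ei i ≫ ti i) (hi i ≫ (U i).hom) (by rw [hout.w, Category.assoc])
  have hπe : π ≫ e = ei i ≫ ti i := c.lift_fst _ _ _
  have hπh : π ≫ h = hi i ≫ (U i).hom := c.lift_snd _ _ _
  have cπ : IsPullback π (hi i) h (U i).hom :=
    IsPullback.of_right (h₁₁ := π) (by rw [hπe]; exact hout) hπh c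
  have h1 := isIso_bcQ_of_etale (V i).hom g (gi i) (ti i) (cT i) q F
  have h2 := hloc i
  have h12 := isIso_bcQ_paste (V i).hom g (gi i) (ti i) (cT i).w (a i) (hi i) (ei i) (cY i).w
    ((cY i).paste_horiz (cT i)).w F q h1 h2
  have h3 := isIso_bcQ_congr (ha i) g (hi i) hπe.symm ((cY i).paste_horiz (cT i)).w
    (by rw [hπe]; exact hout.w) q F h12
  exact isIso_pull_bcQ_of_paste f g h e c.w (U i).hom (hi i) π cπ.w (by rw [hπe]; exact hout.w) F q
    (isIso_bcQ_of_etale (U i).hom h (hi i) π cπ q _) h3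

end Groth.Agent.BCPaste8
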