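import Groth.Agent.BCPaste8.Formula
import Groth.Prelude.Def_EtCore

/-!
# Vertical composition of base change morphisms
-/

set_option autoImplicit false
set_option backward.isDefEq.respectTransparency false
set_option backward.isDefEq.respectTransparency.types false
set_option backward.defeqAttrib.useBackward true
set_option linter.unusedSectionVars false
set_option maxHeartbeats 1000000

universe u

open CategoryTheory CategoryTheory.Limits AlgebraicGeometry Opposite HomologicalComplex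

noncomputable section

namespace Groth.Agent.BCPaste8

theorem etale_comp_left {X : Scheme.{u}} {a b c : X.Etale} (p : a ⟶ b) (q : b ⟶ c) :
    (p ≫ q).left = p.left ≫ q.left := rfl

variable {X S Y T W Z : Scheme.{u}} (f : X ⟶ S) (g : T ⟶ S) (h : Y ⟶ X) (e : Y ⟶ T)
  (w : e ≫ g = h ≫ f) (i : W ⟶ X) (j : Z ⟶ W) (k : Z ⟶ Y) (w' : k ≫ h = j ≫ i)
  (w'' : (k ≫ e) ≫ g = j ≫ i ≫ f)

/-- The square isomorphisms paste. -/
theorem sq_paste (M : EtCoh.Ab Z) :
    (EtCoh.push g).map ((EtCoh.pushComp e k).hom.app M) ≫ (sq g (i ≫ f) j (k ≫ e) w'').hom.app M =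
      (sq g f h e w).hom.app ((EtCoh.push k).obj M) ≫
        (EtCoh.push f).map ((sq h i j k w').hom.app M) ≫
          (EtCoh.pushComp f i).hom.app ((EtCoh.push j).obj M) := by
  apply Sheaf.hom_ext
  ext V : 2
  dsimp [sq, EtCoh.pushComp, EtCoh.pushCongr, Functor.sheafPushforwardContinuousComp',
    Functor.sheafPushforwardContinuousIso, Functor.sheafPushforwardContinuousComp]
  simp only [← Functor.map_comp, Category.id_comp, Category.comp_id]
  refine congrArg M.obj.map (Quiver.Hom.unop_inj ?_)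
  apply MorphismProperty.Over.Hom.ext
  simp only [EtCoh.bc, unop_comp, Quiver.Hom.unop_op, etale_comp_left, Category.assoc]
  repeat (any_goals apply pullback.hom_ext)
  all_goals simp [MorphismProperty.Over.pullbackCongr]

variable [PreservesFiniteLimits (EtCoh.pull e)] [PreservesFiniteLimits (EtCoh.pull k)]
  [PreservesFiniteLimits (EtCoh.pull (k ≫ e))] (F : EtCoh.Ab T) (q : ℕ)

/-- The adjoint base change morphism of the outer rectangle. -/
theorem bcQAdj_paste :
    EtBC.bcQAdj g (i ≫ f) j (k ≫ e) w'' q F =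
      EtBC.bcQAdj g f h e w q F ≫
        (EtCoh.push f).map (EtBC.bcQAdj h i j k w' q ((EtCoh.pull e).obj F)) ≫
          (EtCoh.pushComp f i).hom.app ((EtCoh.Rpush j q).obj ((EtCoh.pull k).obj ((EtCoh.pull e).obj F))) ≫
            (EtCoh.push (i ≫ f)).map ((EtCoh.Rpush j q).map ((EtCore.pullComp k e).inv.app F)) := by
  obtain ⟨r₁, hr₁, h₁⟩ := bcQAdj_eq_chosen g f h e w q F
  obtain ⟨r₂, hr₂, h₂⟩ := bcQAdj_eq_chosen h i j k w' q ((EtCoh.pull e).obj F)
  let I := injectiveResolution F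
  let I' := injectiveResolution ((EtCoh.pull e).obj F)
  let J₂ := injectiveResolution ((EtCoh.pull k).obj ((EtCoh.pull e).obj F))
  let θ := (EtCore.pullComp k e).app F
  let J : InjectiveResolution ((EtCoh.pull (k ≫ e)).obj F) :=
    { cocomplex := J₂.cocomplex
      injective := J₂.injective
      ι := (CochainComplex.single₀ (EtCoh.Ab Z)).map θ.hom ≫ J₂.ι }
  let r₃ : I.cocomplex ⟶ ((EtCoh.push (k ≫ e)).mapHomologicalComplex _).obj J₂.cocomplex :=
    r₁ ≫ ((EtCoh.push e).mapHomologicalComplex _).map r₂ ≫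
      (NatTrans.mapHomologicalComplex (EtCoh.pushComp e k).hom (ComplexShape.up ℕ)).app J₂.cocomplex
  have hJ0 : J.ι.f 0 = θ.hom ≫ J₂.ι.f 0 :=
    congrArg (· ≫ J₂.ι.f 0) (CochainComplex.single₀_map_f_zero _)
  have hu : (EtCoh.pullPushAdj (k ≫ e)).unit.app F ≫ (EtCoh.push (k ≫ e)).map θ.hom =
      ((EtCoh.pullPushAdj e).unit.app F ≫ (EtCoh.push e).map ((EtCoh.pullPushAdj k).unit.app _)) ≫
        (EtCoh.pushComp e k).hom.app _ := by
    refine ((EtCoh.pullPushAdj (k ≫ e)).homEquiv_unit _ _ _).symm.trans ?_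
    refine (Adjunction.homEquiv_leftAdjointUniq_hom_app (EtCoh.pullPushAdj (k ≫ e))
      (((EtCoh.pullPushAdj e).comp (EtCoh.pullPushAdj k)).ofNatIsoRight (EtCoh.pushComp e k)) F).trans ?_
    simp [Adjunction.ofNatIsoRight, Adjunction.comp_unit_app]
  have hr₃ : I.ι.f 0 ≫ r₃.f 0 =
      (EtCoh.pullPushAdj (k ≫ e)).unit.app F ≫ (EtCoh.push (k ≫ e)).map (J.ι.f 0) := by
    have hn := (EtCoh.pushComp e k).hom.naturality (J₂.ι.f 0)
    simp only [Functor.comp_map] at hn
    rw [hJ0, Functor.map_comp, reassoc_of% hu]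
    show I.ι.f 0 ≫ r₁.f 0 ≫ (EtCoh.push e).map (r₂.f 0) ≫ (EtCoh.pushComp e k).hom.app _ = _
    rw [reassoc_of% hr₁, ← Functor.map_comp_assoc, hr₂, Functor.map_comp, Category.assoc]
    exact congrArg (fun z => (EtCoh.pullPushAdj e).unit.app F ≫
      (EtCoh.push e).map ((EtCoh.pullPushAdj k).unit.app _) ≫ z) hn
  have hχ : chi g (i ≫ f) j (k ≫ e) w'' r₃ =
      chi g f h e w r₁ ≫ ((EtCoh.push f).mapHomologicalComplex _).map (chi h i j k w' r₂) ≫
        (NatTrans.mapHomologicalComplex (EtCoh.pushComp f i).hom (ComplexShape.up ℕ)).app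
          (((EtCoh.push j).mapHomologicalComplex _).obj J₂.cocomplex) := by
    ext n : 1
    have hp := sq_paste f g h e w i j k w' w'' (J₂.cocomplex.X n)
    have hn := (sq g f h e w).hom.naturality (r₂.f n)
    simp only [Functor.comp_map] at hn
    simp only [chi_f, HomologicalComplex.comp_f, Functor.mapHomologicalComplex_map_f, r₃,
      NatTrans.mapHomologicalComplex_app_f, Functor.map_comp, Category.assoc]
    erw [hp, reassoc_of% hn]
    rfl
  have hJ : (J.isoRightDerivedObj (EtCoh.push j) q).inv =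
      (J₂.isoRightDerivedObj (EtCoh.push j) q).inv ≫ (EtCoh.Rpush j q).map θ.inv := by
    refine Eq.symm ((InjectiveResolution.isoRightDerivedObj_inv_naturality θ.inv J₂ J (𝟙 J₂.cocomplex)
      (by rw [hJ0, Iso.inv_hom_id_assoc]; exact Category.comp_id _) (EtCoh.push j) q).trans ?_)
    rw [CategoryTheory.Functor.map_id]
    exact Category.id_comp _
  let K := ((EtCoh.push j).mapHomologicalComplex (ComplexShape.up ℕ)).obj J₂.cocomplex
  have hnat := homologyComparison_naturality (EtCoh.push f) (chi h i j k w' r₂) q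
  have hcomp := homologyComparison_comp (EtCoh.push f) (EtCoh.push i) (EtCoh.pushComp f i).hom K q
  have hpc := (EtCoh.pushComp f i).hom.naturality (J₂.isoRightDerivedObj (EtCoh.push j) q).inv
  simp only [Functor.comp_map] at hpc
  rw [bcQAdj_eq g (i ≫ f) j (k ≫ e) w'' q F J r₃ hr₃, h₁, h₂, hJ, hχ, homologyMap_comp, homologyMap_comp]
  simp only [Category.assoc, Functor.map_comp]
  refine congrArg (fun z => (I.isoRightDerivedObj (EtCoh.push g) q).hom ≫
    homologyMap (chi g f h e w r₁) q ≫ z) ?_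
  erw [← reassoc_of% hcomp, reassoc_of% hnat]
  rw [← Functor.map_comp_assoc (EtCoh.push f) (I'.isoRightDerivedObj (EtCoh.push h) q).inv,
    Iso.inv_hom_id, CategoryTheory.Functor.map_id, Category.id_comp]
  erw [← reassoc_of% hpc]
  rfl

/-- The base change morphism of the outer rectangle. -/
theorem bcQ_paste :
    EtBC.bcQ g (i ≫ f) j (k ≫ e) w'' q F =
      (EtCore.pullComp i f).hom.app ((EtCoh.Rpush g q).obj F) ≫
        (EtCoh.pull i).map (EtBC.bcQ g f h e w q F) ≫ EtBC.bcQ h i j k w' q ((EtCoh.pull e).obj F) ≫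
          (EtCoh.Rpush j q).map ((EtCore.pullComp k e).inv.app F) := by
  refine ((EtCoh.pullPushAdj (i ≫ f)).homEquiv _ _).injective ?_
  have hu : ∀ M : EtCoh.Ab S, (EtCoh.pullPushAdj (i ≫ f)).homEquiv _ _
      ((EtCore.pullComp i f).hom.app M) =
      ((EtCoh.pullPushAdj f).unit.app M ≫ (EtCoh.push f).map ((EtCoh.pullPushAdj i).unit.app _)) ≫
        (EtCoh.pushComp f i).hom.app _ := by
    intro M
    refine (Adjunction.homEquiv_leftAdjointUniq_hom_app (EtCoh.pullPushAdj (i ≫ f))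
      (((EtCoh.pullPushAdj f).comp (EtCoh.pullPushAdj i)).ofNatIsoRight (EtCoh.pushComp f i)) _).trans ?_
    simp [Adjunction.ofNatIsoRight, Adjunction.comp_unit_app]
  have hb₁ : (EtCoh.pullPushAdj f).unit.app _ ≫ (EtCoh.push f).map (EtBC.bcQ g f h e w q F) =
      EtBC.bcQAdj g f h e w q F :=
    ((EtCoh.pullPushAdj f).homEquiv_unit _ _ _).symm.trans (Equiv.apply_symm_apply _ _)
  have hb₂ : (EtCoh.pullPushAdj i).unit.app _ ≫
      (EtCoh.push i).map (EtBC.bcQ h i j k w' q ((EtCoh.pull e).obj F)) =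
      EtBC.bcQAdj h i j k w' q ((EtCoh.pull e).obj F) :=
    ((EtCoh.pullPushAdj i).homEquiv_unit _ _ _).symm.trans (Equiv.apply_symm_apply _ _)
  refine ((Equiv.apply_symm_apply _ _).trans (bcQAdj_paste f g h e w i j k w' w'' F q)).trans ?_
  rw [Adjunction.homEquiv_naturality_right, hu]
  simp only [Category.assoc, Functor.map_comp]
  have hn1 := (EtCoh.pushComp f i).hom.naturality ((EtCoh.pull i).map (EtBC.bcQ g f h e w q F))
  have hn2 := (EtCoh.pushComp f i).hom.naturality (EtBC.bcQ h i j k w' q ((EtCoh.pull e).obj F))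
  have hη := (EtCoh.pullPushAdj i).unit.naturality (EtBC.bcQ g f h e w q F)
  simp only [Functor.comp_map, Functor.id_map] at hn1 hn2 hη
  rw [← reassoc_of% hn1, ← reassoc_of% hn2, ← Functor.map_comp_assoc, ← hη]
  simp only [Functor.map_comp, Category.assoc]
  rw [← Functor.map_comp_assoc (EtCoh.push f) ((EtCoh.pullPushAdj i).unit.app _), hb₂, reassoc_of% hb₁]

/-- Pasting of base change isomorphisms. -/
theorem isIso_bcQ_paste (h1 : IsIso (EtBC.bcQ g f h e w q F))
    (h2 : IsIso (EtBC.bcQ h i j k w' q ((EtCoh.pull e).obj F))) :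
    IsIso (EtBC.bcQ g (i ≫ f) j (k ≫ e) w'' q F) := by
  rw [bcQ_paste f g h e w i j k w' w'' F q]
  infer_instance

/-- Cancellation: the inner square pulled back. -/
theorem isIso_pull_bcQ_of_paste (h2 : IsIso (EtBC.bcQ h i j k w' q ((EtCoh.pull e).obj F)))
    (h3 : IsIso (EtBC.bcQ g (i ≫ f) j (k ≫ e) w'' q F)) :
    IsIso ((EtCoh.pull i).map (EtBC.bcQ g f h e w q F)) := by
  rw [bcQ_paste f g h e w i j k w' w'' F q] at h3
  have h4 := IsIso.of_isIso_comp_left ((EtCore.pullComp i f).hom.app ((EtCoh.Rpush g q).obj F))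
    ((EtCoh.pull i).map (EtBC.bcQ g f h e w q F) ≫
      EtBC.bcQ h i j k w' q ((EtCoh.pull e).obj F) ≫ (EtCoh.Rpush j q).map ((EtCore.pullComp k e).inv.app F))
  exact IsIso.of_isIso_comp_right _ (EtBC.bcQ h i j k w' q ((EtCoh.pull e).obj F) ≫
    (EtCoh.Rpush j q).map ((EtCore.pullComp k e).inv.app F))

end Groth.Agent.BCPaste8
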